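import Cfsg.Agent.H794.EM.Main
import Cfsg.Agent.H794.XZ.X0
import Cfsg.Agent.H577.HT.One
import Cfsg.Agent.H623.XZ.FldB
import Cfsg.Agent.H695.LB.PslRow
import Cfsg.Agent.H719.HT.CritP

/-!
# S4933, label route (helper794): the rows `psl_e2`, `psu_e2`

* `exists_tow` : the character of height one, `p e ≤ n`;
* `glData`, `guData` : the groups `GL_n(F)`, `GU_n(q)`;
* `psl_e2`, `psu_e2` : the fields of helper892's dispatcher.
-/

set_option autoImplicit false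

open Cfsg
open scoped ComplexConjugate TensorProduct MatrixGroups

namespace Cfsg.Agent.H794.EM

open Cfsg.Agent.Blocks Cfsg.Agent.Blocks.Basic Cfsg.Agent.Characters
open Cfsg.Agent.Blocks.Local
open Cfsg.Agent.H577.GLB.Std
open Cfsg.Agent.H623.GU
open Cfsg.Agent.H112.GLB Cfsg.Agent.H615.GU
open Cfsg.Agent.H316.HT

universe u v

section tow

variable {K : Type u} [Field K] {θ : K →*₀ ℂ} {Q : ℤ} {M : ℕ} [NeZero M] {N p : ℕ} {G : ℕ → Type u} [∀ n, Group (G n)]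
    [∀ n, Finite (G n)] {𝔐 : Ideal AlgInt}

theorem exists_tow (ho : Odd p) (h𝔐 : IsPModular p 𝔐) (ctx : CtxQ θ Q M N) (hQp : IsUnit (Q : ZMod p))
    (t : Tow θ Q M N p G) {n : ℕ} (hn : n ≤ N) (h1 : (t.T n hn).typ 1 = tyOne Q n) (he0 : 0 < orderOf (Q : ZMod p))
    (hne : p * orderOf (Q : ZMod p) ≤ n) :
    ∃ (χ : IrrCharacter (G n)) (T : LabZ Q M n n), (t.R n hn).IsLb χ T ∧ χ ∈ principalBlock 𝔐 (G n) ∧
      (charDegree (χ : G n → ℂ)).factorization p = 1 ∧ ∀ c, p • c ≠ 0 → bsz (T.t c) = 0 := by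
  have hp : p.Prime := h𝔐.1
  have hle : orderOf (Q : ZMod p) ≤ n := (Nat.le_mul_of_pos_left _ hp.pos).trans hne
  have hpM : p ∣ M := by
    have h1 := ctx.dvd (orderOf (Q : ZMod p)) he0 (by omega)
    have h3 : (p : ℤ) ∣ Q ^ orderOf (Q : ZMod p) - 1 := by
      rw [← ZMod.intCast_zmod_eq_zero_iff_dvd]
      push_cast
      rw [pow_orderOf_eq_one, sub_self]
    exact_mod_cast h3.trans h1
  have h2 : 0 < Nat.card {c : ZMod M // c ≠ 0 ∧ p • c = 0} := by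
    rw [Cfsg.Agent.H139.XZ.card_tors hp hpM]
    have := hp.two_le
    omega
  obtain ⟨⟨c, hc, hc'⟩⟩ := (Nat.card_pos_iff.1 h2).1
  exact exists_one hp ho h𝔐 ctx hQp t hn h1 rfl he0 hne hc hc'

end tow

section groups

variable {F : Type u} [Field F] [Fintype F] {p : ℕ} {𝔐 : Ideal AlgInt}

/-- **`GL_n(F)`** -/
theorem gl_one (hp2 : p ≠ 2) (h𝔐 : IsPModular p 𝔐) (hpF : (p : F) ≠ 0) {n : ℕ}
    (he0 : 0 < orderOf ((Fintype.card F : ℕ) : ZMod p)) (hn : p * orderOf ((Fintype.card F : ℕ) : ZMod p) ≤ n) :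
    ∃ χ : IrrCharacter (GL (Fin n) F), χ ∈ principalBlock 𝔐 (GL (Fin n) F) ∧ vd p (χ : GL (Fin n) F → ℂ) = 1 ∧
      ∀ σ : F ≃+* F, (∃ k : ℕ, σ ^ p ^ k = 1) → ∀ g, (χ : GL (Fin n) F → ℂ)
        (Matrix.GeneralLinearGroup.map (σ : F →+* F) g) = (χ : GL (Fin n) F → ℂ) g := by
  have hp : p.Prime := h𝔐.1
  obtain ⟨K, _, _, θ, M, _, C⟩ := Cfsg.Agent.H120.GLB.Ctx.exists_ctx F n
  have ctx : CtxQ θ (Fintype.card F : ℤ) M n := by
    have := H614.GU.ctxQ_card C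
    rwa [Nat.card_eq_fintype_card] at this
  obtain ⟨t, ht⟩ := H941.GU.towG (p := p) ctx C hp hpF
  have hQp : IsUnit (((Fintype.card F : ℕ) : ℤ) : ZMod p) := Cfsg.Agent.H623.XZ.isUnit_card hp hpF
  obtain ⟨χ, T, h1, h2, h3, h4⟩ := exists_tow (hp.odd_of_ne_two hp2) h𝔐 ctx hQp t le_rfl
    (H577.HT.typ_one_G ctx (t.T n le_rfl) (fun A x => ht n le_rfl A x)) (by rw [Int.cast_natCast]; exact he0)
    (by rw [Int.cast_natCast]; exact hn)
  exact ⟨χ, h2, h3, fun σ ⟨k, hk⟩ g => H623.XZ.gl_fld ctx t ht le_rfl hp h1 h4 σ hk g⟩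

/-- **`GU_n(q)`** -/
theorem gu_one (hp2 : p ≠ 2) (h𝔐 : IsPModular p 𝔐) {q : ℕ} (hF : Fintype.card F = q ^ 2)
    (hpF : (p : F) ≠ 0) {n : ℕ} (he0 : 0 < orderOf ((-(q : ℤ) : ℤ) : ZMod p))
    (hn : p * orderOf ((-(q : ℤ) : ℤ) : ZMod p) ≤ n) :
    ∃ χ : IrrCharacter (GU n F q), χ ∈ principalBlock 𝔐 (GU n F q) ∧ vd p (χ : GU n F q → ℂ) = 1 ∧
      ∀ σ : F ≃+* F, (∃ k : ℕ, σ ^ p ^ k = 1) → ∀ g, (χ : GU n F q → ℂ)
        (Schreier.PSU.mapGU σ g) = (χ : GU n F q → ℂ) g := by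
  have hp : p.Prime := h𝔐.1
  obtain ⟨K, _, _, θ, M, _, C⟩ := Cfsg.Agent.H120.GLB.Ctx.exists_ctx F n
  have ctx : CtxQ θ (-(q : ℤ)) M n := H614.GU.ctxQ_of_ctx C (by rw [Nat.card_eq_fintype_card]; exact hF)
  obtain ⟨t, ht⟩ := H941.GU.towU (p := p) hF ctx C hp hpF
  obtain ⟨χ, T, h1, h2, h3, h4⟩ := exists_tow (G := fun n => GU n F q) (hp.odd_of_ne_two hp2) h𝔐 ctx
    (isUnit_neg_q hF hp hpF) t le_rfl (H577.HT.typ_one_U ctx (t.T n le_rfl) (ht n le_rfl)) he0 hn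
  exact ⟨χ, h2, h3, fun σ ⟨k, hk⟩ g => H623.XZ.gu_fld hF ctx t ht le_rfl hp h1 h4 σ hk g⟩

end groups

theorem glData : H695.LB.GLData := by
  intro p hpf F _ _ n hp2 hpF h2 hn M hM
  have hp : p.Prime := hpf.out
  have hpF' : (p : F) ≠ 0 := by
    intro h0
    obtain ⟨r, hr⟩ := CharP.exists F
    obtain ⟨f, hrp, hf⟩ := FiniteField.card F r
    rw [CharP.cast_eq_zero_iff F r p] at h0
    have h1 : r = p := (Nat.prime_dvd_prime_iff_eq hrp hp).1 h0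
    apply hpF
    rw [hf, h1]
    exact dvd_pow_self p f.pos.ne'
  exact gl_one hp2 hM hpF' (by omega) hn

theorem guData : H719.HT.GUData := by
  intro p hpf F _ _ n q hp2 hF hpq h2 hn M hM
  have hp : p.Prime := hpf.out
  have hpF' : (p : F) ≠ 0 := by
    intro h0
    obtain ⟨r, hr⟩ := CharP.exists F
    obtain ⟨f, hrp, hf⟩ := FiniteField.card F r
    rw [CharP.cast_eq_zero_iff F r p] at h0
    have h1 : r = p := (Nat.prime_dvd_prime_iff_eq hrp hp).1 h0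
    have h3 : p ∣ q ^ 2 := by
      rw [← hF, hf, h1]
      exact dvd_pow_self p f.pos.ne'
    exact hpq (hp.dvd_of_dvd_pow h3)
  have hc : ((-(q : ℤ) : ℤ) : ZMod p) = -(q : ZMod p) := by push_cast; rfl
  exact gu_one hp2 hM hF hpF' (by rw [hc]; omega) (by rw [hc]; exact hn)

/-- **the field `psl_e2` of the dispatcher** -/
theorem psl_e2 : ∀ (p : ℕ) [Fact p.Prime] (F : Type) [Field F] [Fintype F] (n : ℕ)
    [IsSimpleGroup (Matrix.ProjectiveSpecialLinearGroup (Fin n) F)], p ≠ 2 → 2 ≤ n → ¬ p ∣ Fintype.card F →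
    ¬ p ∣ Fintype.card F - 1 → ¬ H892.HT.Ab p (Matrix.ProjectiveSpecialLinearGroup (Fin n) F) →
    Row p (Matrix.ProjectiveSpecialLinearGroup (Fin n) F) :=
  H695.LB.psl_e2_of glData

/-- **the field `psu_e2` of the dispatcher** -/
theorem psu_e2 : ∀ (p : ℕ) [Fact p.Prime] (F : Type) [Field F] [Fintype F] (n q : ℕ) [IsSimpleGroup (PSU n F q)],
    p ≠ 2 → 3 ≤ n → Fintype.card F = q ^ 2 → ¬ p ∣ q → ¬ p ∣ q + 1 → ¬ H892.HT.Ab p (PSU n F q) →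
    Row p (PSU n F q) :=
  fun p _ F _ _ n q _ hp2 hn hF hq hpq hab => H719.HT.psu_e2 guData p F n q hp2 hn hF hq hpq hab

end Cfsg.Agent.H794.EM
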