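import Cfsg.Agent.H794.XZ.Row

/-!
# S4933, label route (helper794): the degree functional

* `gb_ph` : the Gaussian binomial coefficients as quotients;
* `newton` : Newton's identity for `1 / ph j`;
* `one_Pop`, `evR_tyOne` : the value of `evR x` at the type of the identity of degree `n` is `ph n * eps x`.
-/

set_option autoImplicit false
set_option linter.unusedSectionVars false

open scoped ComplexConjugate

namespace Cfsg.Agent.H794.EM

open Cfsg.Agent.H577.GLB.Std Cfsg.Agent.H614 Cfsg.Agent.H614.GLn Cfsg.Agent.H614.GLn.RSt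
open Cfsg.Agent.H615.GU
open Cfsg.Agent.H531.GU

universe u v

/-! ### numbers -/

section num

variable (t : ℂ)

/-- `∏ (t^i - 1)` -/
noncomputable def ph (n : ℕ) : ℂ := ∏ i ∈ Finset.range n, (t ^ (i + 1) - 1)

theorem ph_zero : ph t 0 = 1 := Finset.prod_range_zero _

theorem ph_succ (n : ℕ) : ph t (n + 1) = ph t n * (t ^ (n + 1) - 1) := Finset.prod_range_succ _ _

variable {t}

theorem ph_ne (ht : ∀ i, 0 < i → t ^ i ≠ 1) (n : ℕ) : ph t n ≠ 0 :=
  Finset.prod_ne_zero_iff.2 fun i _ => sub_ne_zero.2 (ht _ (Nat.succ_pos i))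

theorem gb_ph : ∀ n k, k ≤ n → ev t (gb n k) * (ph t k * ph t (n - k)) = ph t n
  | n, 0, _ => by
    rw [gb_zero, ph_zero, one_mul, Nat.sub_zero]
    change Polynomial.aeval t (1 : Polynomial ℤ) * _ = _
    rw [map_one, one_mul]
  | 0, k + 1, h => absurd h (Nat.not_succ_le_zero k)
  | n + 1, k + 1, h => by
    have h1 := gb_ph n k (by omega)
    rcases Nat.lt_or_ge k n with hk | hk
    · have h2 := gb_ph n (k + 1) (by omega)
      have e1 : n - k = (n - (k + 1)) + 1 := by omega
      have e2 : n + 1 - (k + 1) = n - k := by omega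
      have e3 : ((n - (k + 1)) + 1) + (k + 1) = n + 1 := by omega
      have h0 : ev t (gb (n + 1) (k + 1)) = t ^ (k + 1) * ev t (gb n (k + 1)) + ev t (gb n k) := by
        change Polynomial.aeval t (gb (n + 1) (k + 1)) = _
        rw [gb_succ, map_add, map_mul, map_pow, Polynomial.aeval_X]
      rw [h0, e2, ph_succ t n, ph_succ t k]
      have h3 : t ^ (k + 1) * ev t (gb n (k + 1)) * (ph t k * (t ^ (k + 1) - 1) * ph t (n - k)) =
          ph t n * (t ^ (n + 1) - t ^ (k + 1)) := by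
        rw [← h2, e1, ph_succ t (n - (k + 1)), ph_succ t k, ← e3, pow_add]
        ring
      linear_combination h3 + (t ^ (k + 1) - 1) * h1
    · have hkn : k = n := by omega
      subst hkn
      rw [gb_succ, gb_eq_zero (n := k) (k := k + 1) (Nat.lt_succ_self k), mul_zero, zero_add,
        show k + 1 - (k + 1) = 0 by omega, ph_zero, mul_one, ph_succ]
      rw [Nat.sub_self, ph_zero, mul_one] at h1
      rw [← mul_assoc, h1]

variable (t) in
/-- the power sums -/
noncomputable def cs (m : ℕ) : ℂ := (-1) ^ (m - 1) * (t ^ m - 1)⁻¹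

theorem cs_zero : cs t 0 = 0 := by
  rw [cs, pow_zero t, sub_self, inv_zero, mul_zero]

/-- Newton's identity -/
theorem newton (ht : ∀ i, 0 < i → t ^ i ≠ 1) : ∀ m : ℕ, (m : ℂ) * (ph t m)⁻¹ =
    ∑ r ∈ Finset.range (m + 1), cs t r * (ph t (m - r))⁻¹
  | 0 => by
    rw [Nat.cast_zero, zero_mul, Finset.sum_range_one, cs_zero, zero_mul]
  | m + 1 => by
    have ih := newton ht m
    have hne : t ^ (m + 1) - 1 ≠ 0 := sub_ne_zero.2 (ht _ (Nat.succ_pos m))
    have hph := ph_ne ht
    -- multiply by `t^(m+1) - 1`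
    apply mul_left_cancel₀ hne
    have hu : ∀ j, (t ^ (j + 1) - 1) * (ph t (j + 1))⁻¹ = (ph t j)⁻¹ := by
      intro j
      have h1 : t ^ (j + 1) - 1 ≠ 0 := sub_ne_zero.2 (ht _ (Nat.succ_pos j))
      rw [ph_succ, mul_inv]
      field_simp
    have hc : ∀ r, (t ^ (r + 1) - 1) * cs t (r + 1) = (-1) ^ r := by
      intro r
      have h1 : t ^ (r + 1) - 1 ≠ 0 := sub_ne_zero.2 (ht _ (Nat.succ_pos r))
      rw [cs, Nat.add_sub_cancel]
      field_simp
    have hL : (t ^ (m + 1) - 1) * (((m + 1 : ℕ) : ℂ) * (ph t (m + 1))⁻¹) = ((m + 1 : ℕ) : ℂ) * (ph t m)⁻¹ := by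
      rw [← hu m]; ring
    rw [hL, Finset.sum_range_succ' _ (m + 1), cs_zero, zero_mul, add_zero]
    -- the sum over `r + 1`, `r ≤ m`
    have hterm : ∀ r ∈ Finset.range (m + 1), (t ^ (m + 1) - 1) * (cs t (r + 1) * (ph t (m + 1 - (r + 1)))⁻¹) =
        (if r < m then (cs t (r + 1) + (-1) ^ r) * (ph t (m - (r + 1)))⁻¹ else 0) + (-1) ^ r * (ph t (m - r))⁻¹ := by
      intro r hr
      rw [Finset.mem_range] at hr
      have e0 : m + 1 - (r + 1) = m - r := by omega
      rw [e0]
      by_cases h : r < m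
      · rw [if_pos h]
        have e1 : m - r = (m - (r + 1)) + 1 := by omega
        have e2 : t ^ (m + 1) - 1 = t ^ (r + 1) * (t ^ ((m - (r + 1)) + 1) - 1) + (t ^ (r + 1) - 1) := by
          have : m + 1 = (r + 1) + ((m - (r + 1)) + 1) := by omega
          conv_lhs => rw [this, pow_add]
          ring
        have h3 := hu (m - (r + 1))
        have h4 := hc r
        have h5 : t ^ (r + 1) * cs t (r + 1) = cs t (r + 1) + (-1) ^ r := by
          rw [← h4]; ring
        rw [e2, add_mul]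
        congr 1
        · rw [e1, ← h3, ← h5]; ring
        · rw [← h4]; ring
      · have hrm : r = m := by omega
        subst hrm
        rw [if_neg h, zero_add, ← hc r]
        ring
    rw [Finset.mul_sum, Finset.sum_congr rfl hterm, Finset.sum_add_distrib]
    have hA : ∑ r ∈ Finset.range (m + 1), (if r < m then (cs t (r + 1) + (-1) ^ r) * (ph t (m - (r + 1)))⁻¹ else 0) =
        ∑ r ∈ Finset.range m, (cs t (r + 1) + (-1) ^ r) * (ph t (m - (r + 1)))⁻¹ := by
      rw [Finset.sum_range_succ, if_neg (lt_irrefl m), add_zero]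
      exact Finset.sum_congr rfl fun r hr => if_pos (Finset.mem_range.1 hr)
    have hB : ∑ r ∈ Finset.range (m + 1), (-1 : ℂ) ^ r * (ph t (m - r))⁻¹ =
        (ph t m)⁻¹ - ∑ r ∈ Finset.range m, (-1 : ℂ) ^ r * (ph t (m - (r + 1)))⁻¹ := by
      rw [Finset.sum_range_succ', pow_zero, one_mul, Nat.sub_zero, add_comm, sub_eq_add_neg, ← Finset.sum_neg_distrib]
      congr 1
      refine Finset.sum_congr rfl fun r _ => ?_
      rw [pow_succ]; ring
    rw [Finset.sum_range_succ', cs_zero, zero_mul, add_zero] at ih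
    rw [hA, hB]
    simp only [add_mul, Finset.sum_add_distrib]
    rw [← ih]
    push_cast
    ring

end num

/-! ### the local operators -/

section loc

/-- the type of the zero module -/
noncomputable def cn (n : ℕ) : Col := ⟨Finsupp.single 0 n, by
  intro i j hij
  rcases Nat.eq_zero_or_pos j with rfl | hj
  · have : i = 0 := by omega
    rw [this]
  · rw [Finsupp.single_apply, if_neg (by omega)]
    exact Nat.zero_le _⟩

theorem cn_zero_apply (n : ℕ) : cn n 0 = n := Finsupp.single_eq_same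

theorem cn_apply {n i : ℕ} (hi : i ≠ 0) : cn n i = 0 := Finsupp.single_eq_of_ne hi

theorem cn_size (n : ℕ) : (cn n).size = n := by
  change (Finsupp.single 0 n : ℕ →₀ ℕ).sum (fun _ a => a) = n
  rw [Finsupp.sum_single_index rfl]

theorem cn_zero : cn 0 = 0 := by
  ext i
  by_cases hi : i = 0
  · rw [hi, cn_zero_apply]; rfl
  · rw [cn_apply hi]; rfl

theorem cn_inj {n m : ℕ} (h : cn n = cn m) : n = m := by
  rw [← cn_size n, h, cn_size]

theorem below_cn {n : ℕ} {c : Col} (h : c ≤ cn n) : c = cn c.size := by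
  have h0 : ∀ i, i ≠ 0 → c i = 0 := fun i hi => Nat.le_zero.1 ((h i).trans_eq (cn_apply hi))
  have h1 : c = cn (c 0) := by
    ext i
    by_cases hi : i = 0
    · rw [hi, cn_zero_apply]
    · rw [cn_apply hi, h0 i hi]
  have h2 : c.size = c 0 := by rw [h1, cn_size, cn_zero_apply]
  rw [h2]
  exact h1

theorem cn_le {k n : ℕ} (h : k ≤ n) : cn k ≤ cn n := by
  intro i
  by_cases hi : i = 0
  · rw [hi]
    change cn k 0 ≤ cn n 0
    rwa [cn_zero_apply, cn_zero_apply]
  · change cn k i ≤ cn n i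
    rw [cn_apply hi]
    exact Nat.zero_le _

theorem Np_cn (n k : ℕ) : Np (cn n) (cn k) = gb n k := by
  rcases Nat.eq_zero_or_pos k with rfl | hk
  · have : (cn 0).1.support = ∅ := by
      change (Finsupp.single 0 0 : ℕ →₀ ℕ).support = ∅
      rw [Finsupp.single_zero, Finsupp.support_zero]
    rw [Np, this, Finset.prod_empty, gb_zero]
  · have : (cn k).1.support = {0} := Finsupp.support_single 0 hk.ne'
    rw [Np, this, Finset.prod_singleton, cn_apply (show 0 + 1 ≠ 0 by omega), cn_zero_apply, cn_zero_apply, zero_mul,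
      pow_zero, one_mul, Nat.sub_zero, Nat.sub_zero]

variable {t : ℂ}

/-- normalized value at the zero modules -/
noncomputable def Rc (t : ℂ) (g : Col → ℂ) (n : ℕ) : ℂ := g (cn n) * (ph t n)⁻¹

/-- the shift -/
def Sh (j : ℕ) (F : ℕ → ℂ) (n : ℕ) : ℂ := if j ≤ n then F (n - j) else 0

theorem Sh_Sh (i j : ℕ) (F : ℕ → ℂ) : Sh i (Sh j F) = Sh (i + j) F := by
  funext n
  unfold Sh
  split_ifs with h1 h2 h3 h3 h3
  · rw [Nat.sub_sub]
  · omega
  · omega
  · rfl
  · omega
  · rfl

theorem Sh_smul (j : ℕ) (a : ℂ) (F : ℕ → ℂ) : Sh j (fun n => a * F n) = fun n => a * Sh j F n := by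
  funext n
  unfold Sh
  split_ifs <;> simp

theorem Rc_uu (ht : ∀ i, 0 < i → t ^ i ≠ 1) (j : ℕ) (g : Col → ℂ) :
    Rc t (uu t j g) = fun n => (ph t j)⁻¹ * Sh j (Rc t g) n := by
  classical
  funext n
  have hph := ph_ne ht
  unfold Sh
  rw [Rc, uu_apply]
  split_ifs with h
  · rw [Finset.sum_eq_single (cn (n - j))]
    · rw [Np_cn, Rc]
      have h1 := gb_ph (t := t) n (n - j) (Nat.sub_le n j)
      rw [Nat.sub_sub_self h] at h1
      rw [← h1]
      have := hph (n - j)
      have := hph j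
      have h2 : ev t (gb n (n - j)) ≠ 0 := by
        intro h0
        rw [h0, zero_mul] at h1
        exact hph n h1.symm
      field_simp
    · intro c hc hne
      exfalso
      rw [Finset.mem_filter, Col.mem_below, cn_size] at hc
      apply hne
      rw [below_cn hc.1]
      congr 1
      omega
    · intro hc
      exfalso
      apply hc
      rw [Finset.mem_filter, Col.mem_below, cn_size, cn_size]
      exact ⟨cn_le (Nat.sub_le n j), Nat.sub_add_cancel h⟩
  · rw [mul_zero, Finset.sum_eq_zero, zero_mul]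
    intro c hc
    exfalso
    rw [Finset.mem_filter, cn_size] at hc
    omega

theorem uu_at_zero {j : ℕ} (hj : 0 < j) (g : Col → ℂ) : uu t j g 0 = 0 := by
  classical
  rw [uu_apply, Finset.sum_eq_zero]
  intro c hc
  exfalso
  rw [Finset.mem_filter, Col.size_zero] at hc
  omega

theorem pp_at_zero : ∀ (m : ℕ) (g : Col → ℂ), pp t m g 0 = 0
  | 0, g => by
    rw [pp, nwt_zero]
    rfl
  | m + 1, g => by
    rw [pp, nwt_succ, LinearMap.sub_apply, Pi.sub_apply, LinearMap.smul_apply, Pi.smul_apply,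
      uu_at_zero (Nat.succ_pos m), smul_zero, zero_sub, neg_eq_zero, LinearMap.sum_apply, Finset.sum_apply]
    refine Finset.sum_eq_zero fun r hr => ?_
    have : r < m + 1 := Finset.mem_range.1 hr
    exact pp_at_zero r _

theorem Rc_sub (g g' : Col → ℂ) : Rc t (g - g') = Rc t g - Rc t g' := by
  funext n
  simp only [Rc, Pi.sub_apply, sub_mul]

theorem Rc_sum {ι : Type*} (s : Finset ι) (g : ι → Col → ℂ) : Rc t (∑ i ∈ s, g i) = ∑ i ∈ s, Rc t (g i) := by
  funext n
  simp only [Rc, Finset.sum_apply, Finset.sum_mul]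

theorem Rc_nsmul (k : ℕ) (g : Col → ℂ) : Rc t (k • g) = k • Rc t g := by
  funext n
  simp only [Rc, Pi.smul_apply, nsmul_eq_mul, mul_assoc]

theorem Rc_pp (ht : ∀ i, 0 < i → t ^ i ≠ 1) : ∀ (m : ℕ) (g : Col → ℂ),
    Rc t (pp t m g) = fun n => cs t m * Sh m (Rc t g) n
  | 0, g => by
    rw [pp, nwt_zero, cs_zero]
    funext n
    rw [zero_mul, Rc, LinearMap.zero_apply, Pi.zero_apply, zero_mul]
  | m + 1, g => by
    have h1 : pp t (m + 1) g = (m + 1 : ℕ) • uu t (m + 1) g -
        ∑ r ∈ Finset.range (m + 1), pp t r (uu t (m + 1 - r) g) := by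
      rw [pp, nwt_succ, LinearMap.sub_apply, LinearMap.smul_apply, LinearMap.sum_apply]
      rfl
    rw [h1, Rc_sub, Rc_nsmul, Rc_sum, Rc_uu ht]
    funext n
    rw [Pi.sub_apply, Pi.smul_apply, Finset.sum_apply, nsmul_eq_mul]
    have h2 : ∀ r ∈ Finset.range (m + 1), Rc t (pp t r (uu t (m + 1 - r) g)) n =
        cs t r * (ph t (m + 1 - r))⁻¹ * Sh (m + 1) (Rc t g) n := by
      intro r hr
      rw [Finset.mem_range] at hr
      have : r < m + 1 := hr
      rw [Rc_pp ht r, Rc_uu ht, Sh_smul, Sh_Sh, Nat.add_sub_cancel' hr.le, mul_assoc]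
    rw [Finset.sum_congr rfl h2, ← Finset.sum_mul]
    have h3 := newton ht (m + 1)
    rw [Finset.sum_range_succ, Nat.sub_self, ph_zero, inv_one, mul_one] at h3
    rw [← mul_assoc, ← sub_mul, h3]
    ring

end loc

/-! ### the global operators -/

section glob

variable {K : Type u} [Field K] [Finite K] (θ : K →*₀ ℂ) (Q : ℤ) (M : ℕ)

/-- the orbit of one -/
def o1 (K : Type u) [Field K] (Q : ℤ) : Orb K Q := Quotient.mk (orbSetoid K Q) 1

theorem mk_eq_o1 {x : Kˣ} (hQ : IsCoprime Q (Nat.card Kˣ : ℤ)) (h : Quotient.mk (orbSetoid K Q) x = o1 K Q) :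
    x = 1 := by
  obtain ⟨i, j, hij⟩ := Quotient.exact h
  rw [one_zpow] at hij
  have h1 : IsCoprime (Q ^ i) (Nat.card Kˣ : ℤ) := hQ.pow_left
  obtain ⟨a, b, hab⟩ := h1
  have h2 : x ^ (a * Q ^ i + b * (Nat.card Kˣ : ℤ)) = 1 := by
    rw [zpow_add, mul_comm a, zpow_mul, hij, one_zpow, one_mul, mul_comm b, zpow_mul, zpow_natCast, pow_card_eq_one',
      one_zpow]
  rwa [hab, zpow_one] at h2

theorem dOrb_o1 (hQ : IsCoprime Q (Nat.card Kˣ : ℤ)) : dOrb K Q (o1 K Q) = 1 := by
  unfold dOrb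
  rw [Nat.card_eq_one_iff_unique]
  exact ⟨⟨fun x y => Subtype.ext ((mk_eq_o1 Q hQ x.2).trans (mk_eq_o1 Q hQ y.2).symm)⟩, ⟨⟨1, rfl⟩⟩⟩

theorem thO_o1 (hQ : IsCoprime Q (Nat.card Kˣ : ℤ)) (k : ℕ) (c : ZMod M) : thO θ Q M k c (o1 K Q) = 1 := by
  unfold thO
  let _i : Unique {x : Kˣ // (Quotient.mk (orbSetoid K Q) x) = o1 K Q} :=
    { default := ⟨1, rfl⟩, uniq := fun x => Subtype.ext (mk_eq_o1 Q hQ x.2) }
  rw [finsum_unique]
  have h1 : ((default : {x : Kˣ // (Quotient.mk (orbSetoid K Q) x) = o1 K Q}) : Kˣ) = 1 := rfl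
  rw [h1, Units.val_one, map_one, one_zpow]

/-- the type of the identity of degree `n` -/
noncomputable def tyOne (n : ℕ) : Ty (Orb K Q) := Finsupp.single (o1 K Q) (cn n)

/-- normalized value at the types of the identities -/
noncomputable def RG (f : Ty (Orb K Q) → ℂ) (n : ℕ) : ℂ := f (tyOne Q n) * (ph (Q : ℂ) n)⁻¹

theorem RG_Pop (hQ : IsCoprime Q (Nat.card Kˣ : ℤ)) (ht : ∀ i, 0 < i → (Q : ℂ) ^ i ≠ 1) (k : ℕ) (c : ZMod M)
    (f : Ty (Orb K Q) → ℂ) : RG Q (Pop θ Q M k c f) = fun n => cs (Q : ℂ) k * Sh k (RG Q f) n := by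
  classical
  funext n
  have h0 : ∀ o : Orb K Q, (tyOne Q n).update o = (tyOne Q n).update o := fun _ => rfl
  rw [RG, Pop_eq, LinearMap.sum_apply, Finset.sum_apply, Finset.sum_eq_single (o1 K Q)]
  · rcases Nat.eq_zero_or_pos k with rfl | hk
    · rw [if_neg (fun h => lt_irrefl _ h.1), LinearMap.zero_apply, Pi.zero_apply, zero_mul, cs_zero, zero_mul]
    · rw [dOrb_o1 Q hQ, if_pos ⟨hk, one_dvd k⟩, thO_o1 θ Q M hQ, one_smul, lft_apply, pow_one, Nat.div_one]
      have h1 : (tyOne Q n : Ty (Orb K Q)) (o1 K Q) = cn n := Finsupp.single_eq_same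
      have h2 : (fun c : Col => f ((tyOne Q n).update (o1 K Q) c)) = fun c : Col => f (Finsupp.single (o1 K Q) c) := by
        funext c
        congr 1
        ext1 j
        simp only [Finsupp.coe_update]
        by_cases hj : j = o1 K Q
        · subst hj
          simp
        · rw [Function.update_of_ne hj, Finsupp.single_eq_of_ne hj, tyOne, Finsupp.single_eq_of_ne hj]
      rw [h1, h2]
      have h3 := congrFun (Rc_pp ht k (fun c : Col => f (Finsupp.single (o1 K Q) c))) n
      rw [Rc] at h3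
      exact h3
  · intro o _ ho
    split_ifs with h
    · rw [LinearMap.smul_apply, Pi.smul_apply, lft_apply]
      have h1 : (tyOne Q n : Ty (Orb K Q)) o = 0 := Finsupp.single_eq_of_ne ho
      rw [h1, pp_at_zero, smul_zero]
    · rfl
  · intro h
    exact absurd (Finset.mem_univ _) h

/-- the formal degree -/
noncomputable def epsX : RS M →ₐ[ℂ] Polynomial ℂ :=
  MvPolynomial.aeval fun v : Var M => Polynomial.monomial v.1 (cs (Q : ℂ) v.1)

/-- the degree functional -/
noncomputable def eps : RS M →ₐ[ℂ] ℂ := MvPolynomial.aeval fun v : Var M => cs (Q : ℂ) v.1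

theorem RG_evR (hQ : IsCoprime Q (Nat.card Kˣ : ℤ)) (ht : ∀ i, 0 < i → (Q : ℂ) ^ i ≠ 1) (x : RS M) :
    RG Q (H615.GU.evR θ Q M x) = fun n => (epsX Q M x).coeff n := by
  induction x using MvPolynomial.induction_on with
  | C a =>
    funext n
    have h1 : (MvPolynomial.C a : RS M) = a • 1 := by
      rw [← MvPolynomial.C_1, MvPolynomial.smul_eq_C_mul, ← map_mul, mul_one]
    rw [h1, map_smul, evR_one, map_smul, map_one, RG, Pi.smul_apply, Polynomial.coeff_smul, smul_eq_mul, smul_eq_mul,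
      mul_assoc]
    congr 1
    rw [Polynomial.coeff_one]
    by_cases hn : n = 0
    · subst hn
      have h2 : (tyOne Q 0 : Ty (Orb K Q)) = 0 := by rw [tyOne, cn_zero, Finsupp.single_zero]
      rw [h2, if_pos rfl, ph_zero, inv_one, mul_one]
      exact if_pos rfl
    · rw [if_neg hn]
      have h2 : (tyOne Q n : Ty (Orb K Q)) ≠ 0 := by
        intro h
        rw [tyOne, Finsupp.single_eq_zero, ← cn_zero] at h
        exact hn (cn_inj h)
      have h3 : (vac : Ty (Orb K Q) → ℂ) (tyOne Q n) = 0 := if_neg h2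
      rw [h3, zero_mul]
  | add x y hx hy =>
    funext n
    have h1 := congrFun hx n
    have h2 := congrFun hy n
    simp only [RG] at h1 h2 ⊢
    rw [map_add, Pi.add_apply, add_mul, h1, h2, map_add, Polynomial.coeff_add]
  | mul_X x v hx =>
    rw [mul_comm, Cfsg.Agent.H531.GU.evR_X_mul θ Q M Cfsg.Agent.H521.GU.i2s, RG_Pop θ Q M hQ ht, hx]
    funext n
    have h1 : epsX Q M (MvPolynomial.X v) = Polynomial.C (cs (Q : ℂ) v.1) * Polynomial.X ^ v.1 := by
      rw [epsX, MvPolynomial.aeval_X, Polynomial.C_mul_X_pow_eq_monomial]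
    rw [map_mul, h1, mul_assoc, Polynomial.coeff_C_mul, Polynomial.coeff_X_pow_mul', Sh]

/-- the formal degree of a homogeneous polynomial -/
theorem epsX_hom {n : ℕ} {x : RS M} (hx : x ∈ Hom Q M n) : epsX Q M x = Polynomial.monomial n (eps Q M x) := by
  have hw : x ∈ MvPolynomial.weightedHomogeneousSubmodule ℂ (fun v : Var M => v.1) n := hx.2
  rw [MvPolynomial.mem_weightedHomogeneousSubmodule] at hw
  rw [x.as_sum, map_sum, map_sum, map_sum]
  refine Finset.sum_congr rfl fun s hs => ?_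
  have h1 : Finsupp.weight (fun v : Var M => v.1) s = n := hw (MvPolynomial.mem_support_iff.1 hs)
  rw [epsX, eps, MvPolynomial.aeval_monomial, MvPolynomial.aeval_monomial]
  have h2 : (s.prod fun v k => (Polynomial.monomial v.1 (cs (Q : ℂ) v.1)) ^ k) =
      Polynomial.monomial n (s.prod fun v k => (cs (Q : ℂ) v.1) ^ k) := by
    rw [← h1, Finsupp.weight_apply]
    unfold Finsupp.prod Finsupp.sum
    simp only [← Polynomial.C_mul_X_pow_eq_monomial, mul_pow, Finset.prod_mul_distrib, ← pow_mul]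
    rw [Finset.prod_pow_eq_pow_sum, map_prod]
    congr 1
    · exact Finset.prod_congr rfl fun v _ => (map_pow _ _ _).symm
    · congr 1
      exact Finset.sum_congr rfl fun v _ => by rw [smul_eq_mul, mul_comm]
  rw [h2, Polynomial.algebraMap_eq, Polynomial.C_mul_monomial]
  rfl

/-- **the degree** -/
theorem evR_tyOne (hQ : IsCoprime Q (Nat.card Kˣ : ℤ)) (ht : ∀ i, 0 < i → (Q : ℂ) ^ i ≠ 1) {n : ℕ} {x : RS M}
    (hx : x ∈ Hom Q M n) : H615.GU.evR θ Q M x (tyOne Q n) = ph (Q : ℂ) n * eps Q M x := by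
  have h1 := congrFun (RG_evR θ Q M hQ ht x) n
  rw [epsX_hom Q M hx, Polynomial.coeff_monomial, if_pos rfl, RG] at h1
  rw [← h1, mul_comm, mul_assoc, inv_mul_cancel₀ (ph_ne ht n), mul_one]

end glob

end Cfsg.Agent.H794.EM
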