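import Cfsg.Agent.H794.EM.Val
import Cfsg.Agent.H139.HT.Reg
import Cfsg.Agent.H421.HT.Num

/-!
# S4933, label route (helper794): a character of height one

* `PH`, `fac_A`, `fac_B` : valuations;
* `deg_two` : the degree of the character of the label `two`.
* `exists_char` : the character of height one (hypotheses: `N1`, `N2`, the value of the form).
-/

set_option autoImplicit false
set_option linter.unusedSectionVars false

open Cfsg
open scoped ComplexConjugate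

namespace Cfsg.Agent.H794.EM

open Cfsg.Agent.H577.GLB.Std Cfsg.Agent.H614 Cfsg.Agent.H614.GLn.RSt
open Cfsg.Agent.H614.GLn hiding bsz
open Cfsg.Agent.H794.XZ
open Cfsg.Agent.Characters Cfsg.Agent.Blocks.Basic Cfsg.Agent.Blocks.Local
open Cfsg.Agent.H623.GU Cfsg.Agent.H112.GLB Cfsg.Agent.H615.GU

universe u v

/-! ### integers -/

section ints

/-- `∏ (Q^i - 1)` -/
def PH (Q : ℤ) (n : ℕ) : ℤ := ∏ i ∈ Finset.range n, (Q ^ (i + 1) - 1)

theorem PH_cast (Q : ℤ) (n : ℕ) : ((PH Q n : ℤ) : ℂ) = ph (Q : ℂ) n := by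
  rw [PH, ph, Int.cast_prod]
  exact Finset.prod_congr rfl fun i _ => by push_cast; rfl

theorem pow_ne_one {Q : ℤ} (h : 2 ≤ |Q|) {i : ℕ} (hi : 0 < i) : Q ^ i ≠ 1 := by
  intro h1
  have h2 : |Q| ^ i = 1 := by rw [← abs_pow, h1, abs_one]
  have h3 : 1 < |Q| ^ i := one_lt_pow₀ (by linarith) hi.ne'
  omega

theorem PH_ne {Q : ℤ} (h : 2 ≤ |Q|) (n : ℕ) : PH Q n ≠ 0 :=
  Finset.prod_ne_zero_iff.2 fun _ _ => sub_ne_zero.2 (pow_ne_one h (Nat.succ_pos _))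

/-- the valuation -/
noncomputable def vz (p : ℕ) (z : ℤ) : ℕ := z.natAbs.factorization p

theorem vz_mul {p : ℕ} {a b : ℤ} (ha : a ≠ 0) (hb : b ≠ 0) : vz p (a * b) = vz p a + vz p b := by
  rw [vz, Int.natAbs_mul, Nat.factorization_mul (Int.natAbs_ne_zero.2 ha) (Int.natAbs_ne_zero.2 hb)]
  rfl

theorem vz_natCast (p D : ℕ) : vz p (D : ℤ) = D.factorization p := by
  rw [vz, Int.natAbs_natCast]

theorem vz_unit {p : ℕ} (s : ℤˣ) (a : ℤ) : vz p ((s : ℤ) * a) = vz p a := by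
  rw [vz, vz, Int.natAbs_mul, Int.natAbs_of_isUnit s.isUnit, one_mul]

variable {p : ℕ} {Q : ℤ} {e : ℕ}

/-- helper421's product formula -/
theorem N1 (hp : p.Prime) (ho : Odd p) (hQ : 2 ≤ |Q|) (he : orderOf (Q : ZMod p) = e) (n : ℕ) :
    vz p (PH Q n) = (n / e) * vz p (Q ^ e - 1) + ((n / e).factorial).factorization p := by
  have h := Cfsg.Agent.H421.HT.fac_prod hp ho hQ n
  rw [he] at h
  exact h

theorem N1_pow (hp : p.Prime) (ho : Odd p) (hQ : 2 ≤ |Q|) (he : orderOf (Q : ZMod p) = e) (he0 : 0 < e) (k : ℕ) :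
    vz p (PH (Q ^ e) k) = k * vz p (Q ^ e - 1) + (k.factorial).factorization p := by
  have := Fact.mk hp
  have h1 : 2 ≤ |Q ^ e| := by
    rw [abs_pow]
    exact hQ.trans (le_self_pow₀ (by linarith) he0.ne')
  have h2 : orderOf ((Q ^ e : ℤ) : ZMod p) = 1 := by
    rw [Int.cast_pow, ← he, pow_orderOf_eq_one, orderOf_one]
  have h3 := N1 hp ho h1 h2 k
  rwa [pow_one, Nat.div_one] at h3

theorem choose_fac (p a k : ℕ) : ((a + k).choose k).factorization p + (k.factorial).factorization p +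
    (a.factorial).factorization p = ((a + k).factorial).factorization p := by
  have h2 := Nat.choose_mul_factorial_mul_factorial (n := a + k) (k := k) (Nat.le_add_left _ _)
  have hc0 : (a + k).choose k ≠ 0 := (Nat.choose_pos (Nat.le_add_left _ _)).ne'
  rw [Nat.add_sub_cancel] at h2
  rw [← h2, Nat.factorization_mul (mul_ne_zero hc0 (Nat.factorial_ne_zero _)) (Nat.factorial_ne_zero _),
    Nat.factorization_mul hc0 (Nat.factorial_ne_zero _), Finsupp.add_apply, Finsupp.add_apply]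

/-- the valuation of the degree, rows -/
theorem fac_A (hp : p.Prime) (ho : Odd p) (hQ : 2 ≤ |Q|) (he : orderOf (Q : ZMod p) = e) (he0 : 0 < e) {n n' k D : ℕ}
    (hn : n' + e * k = n) (s : ℤˣ)
    (hD : (D : ℤ) * (PH Q n' * PH (Q ^ e) k) = (s : ℤ) * PH Q n) :
    D.factorization p = ((n / e).choose k).factorization p := by
  have hQe : 2 ≤ |Q ^ e| := by
    rw [abs_pow]
    exact hQ.trans (le_self_pow₀ (by linarith) he0.ne')
  have hD0 : (D : ℤ) ≠ 0 := by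
    intro h0
    rw [h0, zero_mul] at hD
    rcases mul_eq_zero.1 hD.symm with h1 | h1
    · exact s.ne_zero h1
    · exact PH_ne hQ n h1
  have h1 := congrArg (vz p) hD
  rw [vz_mul hD0 (mul_ne_zero (PH_ne hQ _) (PH_ne hQe _)), vz_mul (PH_ne hQ _) (PH_ne hQe _), vz_unit, vz_natCast,
    N1 hp ho hQ he, N1 hp ho hQ he, N1_pow hp ho hQ he he0] at h1
  have hw : n / e = n' / e + k := by
    rw [← hn, Nat.add_mul_div_left _ _ he0]
  have h3 := choose_fac p (n' / e) k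
  rw [hw, Nat.add_mul] at h1
  rw [hw]
  generalize ((n' / e + k).choose k).factorization p = A at h3 ⊢
  generalize ((n' / e + k).factorial).factorization p = B at h1 h3
  generalize ((n' / e).factorial).factorization p = C at h1 h3
  generalize (k.factorial).factorization p = E at h1 h3
  generalize n' / e * vz p (Q ^ e - 1) = F at h1
  generalize k * vz p (Q ^ e - 1) = G at h1
  omega

theorem vz_pow_sub (hp : p.Prime) (ho : Odd p) (hQ : 2 ≤ |Q|) (he : orderOf (Q : ZMod p) = e) (he0 : 0 < e) :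
    vz p ((Q ^ e) ^ p - 1) = vz p (Q ^ e - 1) + 1 := by
  have hQe : 2 ≤ |Q ^ e| := by
    rw [abs_pow]
    exact hQ.trans (le_self_pow₀ (by linarith) he0.ne')
  obtain ⟨r, hr⟩ := Nat.exists_eq_succ_of_ne_zero hp.ne_zero
  have h1 := N1_pow hp ho hQ he he0 (r + 1)
  have h2 := N1_pow hp ho hQ he he0 r
  have h3 : PH (Q ^ e) (r + 1) = PH (Q ^ e) r * ((Q ^ e) ^ (r + 1) - 1) := Finset.prod_range_succ _ _
  have h4 : (r + 1).factorization p = 1 := by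
    have : r + 1 = p := hr.symm
    rw [this, hp.factorization_self]
  rw [h3, vz_mul (PH_ne hQe _) (sub_ne_zero.2 (pow_ne_one hQe (Nat.succ_pos r))), h2, Nat.factorial_succ,
    Nat.factorization_mul (Nat.succ_ne_zero r) (Nat.factorial_ne_zero r), Finsupp.add_apply, h4, Nat.add_mul,
    one_mul] at h1
  have h5 : (Q ^ e) ^ p = (Q ^ e) ^ (r + 1) := by rw [hr]
  rw [h5]
  generalize r * vz p (Q ^ e - 1) = F at h1
  generalize vz p ((Q ^ e) ^ (r + 1) - 1) = G at h1 ⊢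
  generalize vz p (Q ^ e - 1) = H at h1 ⊢
  omega

/-- the valuation of the degree, partition `(p, 1)` -/
theorem fac_B (hp : p.Prime) (ho : Odd p) (hQ : 2 ≤ |Q|) (he : orderOf (Q : ZMod p) = e) (he0 : 0 < e) {n n' D : ℕ}
    (hn : n' + e * (p + 1) = n) (s : ℤˣ)
    (hD : (D : ℤ) * (PH Q n' * ((Q ^ e - 1) * PH (Q ^ e) (p + 1))) = (s : ℤ) * (PH Q n * (Q ^ e * ((Q ^ e) ^ p - 1)))) :
    D.factorization p = ((n / e).choose (p + 1)).factorization p + 1 := by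
  have hQe : 2 ≤ |Q ^ e| := by
    rw [abs_pow]
    exact hQ.trans (le_self_pow₀ (by linarith) he0.ne')
  have hQ0 : Q ≠ 0 := by
    rintro rfl
    rw [abs_zero] at hQ
    omega
  have hQe0 : Q ^ e ≠ 0 := pow_ne_zero _ hQ0
  have hm1 : (Q ^ e) ^ p - 1 ≠ 0 := sub_ne_zero.2 (pow_ne_one hQe hp.pos)
  have hm2 : Q ^ e - 1 ≠ 0 := by
    have := pow_ne_one hQe one_pos
    rw [pow_one] at this
    exact sub_ne_zero.2 this
  have hD0 : (D : ℤ) ≠ 0 := by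
    intro h0
    rw [h0, zero_mul] at hD
    rcases mul_eq_zero.1 hD.symm with h1 | h1
    · exact s.ne_zero h1
    · exact mul_ne_zero (PH_ne hQ n) (mul_ne_zero hQe0 hm1) h1
  have hv0 : vz p (Q ^ e) = 0 := by
    rw [vz]
    refine Nat.factorization_eq_zero_of_not_dvd fun hd => ?_
    have := Fact.mk hp
    have h1 : (p : ℤ) ∣ Q ^ e := Int.natCast_dvd.2 hd
    have h2 : ((Q ^ e : ℤ) : ZMod p) = 0 := (ZMod.intCast_zmod_eq_zero_iff_dvd _ _).2 h1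
    rw [Int.cast_pow, ← he, pow_orderOf_eq_one] at h2
    exact one_ne_zero h2
  have h1 := congrArg (vz p) hD
  rw [vz_mul hD0 (mul_ne_zero (PH_ne hQ _) (mul_ne_zero hm2 (PH_ne hQe _))), vz_mul (PH_ne hQ _)
    (mul_ne_zero hm2 (PH_ne hQe _)), vz_mul hm2 (PH_ne hQe _), vz_unit, vz_natCast, vz_mul (PH_ne hQ _)
    (mul_ne_zero hQe0 hm1), vz_mul hQe0 hm1, hv0, vz_pow_sub hp ho hQ he he0,
    N1 hp ho hQ he, N1 hp ho hQ he, N1_pow hp ho hQ he he0] at h1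
  have hw : n / e = n' / e + (p + 1) := by
    rw [← hn, Nat.add_mul_div_left _ _ he0]
  have h3 := choose_fac p (n' / e) (p + 1)
  rw [hw, Nat.add_mul (n' / e)] at h1
  rw [hw]
  generalize ((n' / e + (p + 1)).choose (p + 1)).factorization p = A at h3 ⊢
  generalize ((n' / e + (p + 1)).factorial).factorization p = B at h1 h3
  generalize ((n' / e).factorial).factorization p = C at h1 h3
  generalize ((p + 1).factorial).factorization p = E at h1 h3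
  generalize n' / e * vz p (Q ^ e - 1) = F at h1
  generalize (p + 1) * vz p (Q ^ e - 1) = G at h1
  generalize vz p (Q ^ e - 1) = V at h1
  omega

end ints

/-! ### the degree of the label `two` -/

section tow

variable {K : Type u} [Field K] {θ : K →*₀ ℂ} {Q : ℤ} {M : ℕ} [NeZero M] {N p : ℕ} {G : ℕ → Type u} [∀ n, Group (G n)]
    [∀ n, Finite (G n)] {𝔐 : Ideal AlgInt}

theorem coprime_of_unit (ctx : CtxQ θ Q M N) : IsCoprime Q (Nat.card Kˣ : ℤ) := by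
  rw [ctx.card]
  have h := ctx.unit
  obtain ⟨b, hb⟩ := h.exists_right_inv
  obtain ⟨z, rfl⟩ := ZMod.intCast_surjective b
  have h1 : ((Q * z - 1 : ℤ) : ZMod M) = 0 := by
    push_cast
    rw [hb, sub_self]
  rw [ZMod.intCast_zmod_eq_zero_iff_dvd] at h1
  obtain ⟨r, hr⟩ := h1
  exact ⟨z, -r, by linarith [mul_comm Q z, mul_comm (M : ℤ) r]⟩

theorem om_one (ctx : CtxQ θ Q M N) (t : Tow θ Q M N p G) {n : ℕ} (hn : n ≤ N) (h1 : (t.T n hn).typ 1 = tyOne Q n)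
    {x : RS M} (hx : x ∈ Hom Q M n) : (t.R n hn).om x 1 = ph (Q : ℂ) n * eps Q M x := by
  have := ctx.finK
  rw [t.R_om hn, h1]
  refine evR_tyOne θ Q M (coprime_of_unit ctx) (fun i hi h => ?_) hx
  exact pow_ne_one ctx.two hi (by exact_mod_cast h)

theorem ht_of (ctx : CtxQ θ Q M N) : ∀ i, 0 < i → (Q : ℂ) ^ i ≠ 1 := fun i hi h =>
  pow_ne_one ctx.two hi (by exact_mod_cast h)

theorem eps_unip (ctx : CtxQ θ Q M N) {m : ℕ} (hm : 0 < m) (n' : ℕ) :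
    eps Q M (SS (fun j => Pw Q M j (0 : ZMod M)) n' (row m n')) = (ph (Q : ℂ) n')⁻¹ := by
  rw [SS_row _ hm, eps_hh Q M ctx.unit (ht_of ctx), perZ_zero' , Nat.sub_self, pow_zero, one_pow, one_mul, pow_one]

/-- the character of a label in the principal block -/
theorem lab_ex (h𝔐 : IsPModular p 𝔐) (ctx : CtxQ θ Q M N) (t : Tow θ Q M N p G)
    {n : ℕ} (hn : n ≤ N) (hm : 0 < n) (h1 : (t.T n hn).typ 1 = tyOne Q n) (T : LabZ Q M n n)
    (hK : form Q M (tauP Q M p (SchP Q M T.t)) (S0 Q M n (row n n)) ≠ 0) :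
    ∃ (χ : IrrCharacter (G n)) (s : ℤˣ), (t.R n hn).IsLb χ T ∧ χ ∈ principalBlock 𝔐 (G n) ∧
      (charDegree (χ : G n → ℂ) : ℂ) = ((s : ℤ) : ℂ) * (ph (Q : ℂ) n * eps Q M (SchP Q M T.t)) := by
  obtain ⟨χ, hχ, -⟩ := (t.bij n n hn le_rfl).2 T
  obtain ⟨s, hs⟩ := id hχ
  refine ⟨χ, s, hχ, Cfsg.Agent.H139.HT.mem_of_tau h𝔐 ctx t hn hm hχ (m := n) hK, ?_⟩
  have h3 := congrFun hs 1
  have h4 : (t.R n hn).om (SchP Q M T.t) 1 = ph (Q : ℂ) n * eps Q M (SchP Q M T.t) :=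
    om_one ctx t hn h1 (schP_mem_hom ctx.unit T)
  rw [← h4]
  have hss : ((s : ℤ) : ℂ) * ((s : ℤ) : ℂ) = 1 := by
    rw [← Int.cast_mul, ← Units.val_mul, Int.units_mul_self, Units.val_one, Int.cast_one]
  have h5 : (t.R n hn).om (SchP Q M T.t) 1 = ((s : ℤ) : ℂ) * (charDegree (χ : G n → ℂ) : ℂ) := by
    rw [← irr_one_eq_charDegree χ.2]
    exact h3
  rw [h5, ← mul_assoc, hss, one_mul]

/-- the other labels of `two` are trivial -/
theorem two_triv (ctx : CtxQ θ Q M N) {n n' m : ℕ} {l μ : Fin m → ℕ} (hl : StrictMono l) (hn' : bsz l = n') {c : ZMod M}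
    (hc : c ≠ 0) (hc' : p • c = 0) (hμ : StrictMono μ) (hn : n' + perZ Q M c * bsz μ = n) {c' : ZMod M}
    (hc2 : p • c' ≠ 0) : bsz ((Cfsg.Agent.H139.XZ.two ctx.unit hl hn' c hc hμ hn).t c') = 0 := by
  have h0 : c' ≠ 0 := by
    rintro rfl
    exact hc2 (smul_zero _)
  have h2 : ¬ SameZ Q M c c' := fun h => hc2 (Cfsg.Agent.H139.XZ.smul_same h hc')
  have h3 : (Cfsg.Agent.H139.XZ.two ctx.unit hl hn' c hc hμ hn).t c' = Cfsg.Agent.H76.GLB.idb m := by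
    change Cfsg.Agent.H76.GLB.repl Q (Cfsg.Agent.H139.XZ.unl ctx.unit hl hn').t c μ c' = _
    rw [Cfsg.Agent.H76.GLB.repl_not _ _ h2, Cfsg.Agent.H139.XZ.unl_ne _ _ _ h0]
  rw [h3]
  exact Cfsg.Agent.H76.GLB.bsz_idb

/-- **(A)** : two rows -/
theorem lab_A (hp : p.Prime) (ho : Odd p) (h𝔐 : IsPModular p 𝔐) (ctx : CtxQ θ Q M N) (hQp : IsUnit (Q : ZMod p))
    (t : Tow θ Q M N p G)
    {n n' k e : ℕ} (hn : n ≤ N) (h1 : (t.T n hn).typ 1 = tyOne Q n) (he : orderOf (Q : ZMod p) = e) (he0 : 0 < e)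
    (hk : 0 < k) (hnn : n' + e * k = n) {c : ZMod M} (hc : c ≠ 0) (hc' : p • c = 0) :
    ∃ (χ : IrrCharacter (G n)) (T : LabZ Q M n n), (t.R n hn).IsLb χ T ∧ χ ∈ principalBlock 𝔐 (G n) ∧
      (charDegree (χ : G n → ℂ)).factorization p = ((n / e).choose k).factorization p ∧
      ∀ c, p • c ≠ 0 → bsz (T.t c) = 0 := by
  have hm : 0 < n := by
    have := Nat.mul_pos he0 hk
    omega
  have hper : perZ Q M c = e := by rw [Cfsg.Agent.H139.XZ.perZ_tors hp ctx.unit hQp hc hc', he]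
  have hper' : perZ Q M (canon Q M c) = e := by
    rw [← perZ_of_same ctx.unit (sameZ_canon c), hper]
  have hnn' : n' + perZ Q M c * bsz (row n k) = n := by rw [hper, Cfsg.Agent.H531.HT.sum_row' hm, hnn]
  obtain ⟨χ, s, hχ, hB, hd⟩ := lab_ex h𝔐 ctx t hn hm h1
    (Cfsg.Agent.H139.XZ.two ctx.unit (Cfsg.Agent.H531.HT.row_mono n n') (Cfsg.Agent.H531.HT.sum_row' hm n') c hc
      (Cfsg.Agent.H531.HT.row_mono n k) hnn')
    (Cfsg.Agent.H531.HT.form_two_row_ne ctx.unit hm hm hc hc' hnn')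
  refine ⟨χ, _, hχ, hB, ?_, fun c' hc2 => two_triv ctx _ _ hc hc' _ _ hc2⟩
  have hT := Cfsg.Agent.H139.XZ.SchP_two ctx.unit (Cfsg.Agent.H531.HT.row_mono n n') (Cfsg.Agent.H531.HT.sum_row' hm n')
    c hc (Cfsg.Agent.H531.HT.row_mono n k) hnn'
  rw [Cfsg.Agent.H531.HT.sum_row' hm] at hT
  have hU := eps_unip ctx hm n'
  have hQe : 2 ≤ |Q ^ e| := by
    rw [abs_pow]
    exact ctx.two.trans (le_self_pow₀ (by linarith [ctx.two]) he0.ne')
  have h6 : ph (Q : ℂ) n' ≠ 0 := ph_ne (ht_of ctx) n'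
  have h7 : ph ((Q : ℂ) ^ e) k ≠ 0 := by
    rw [← Int.cast_pow, ← PH_cast]
    exact_mod_cast PH_ne hQe k
  rw [hT, map_mul, hU, SS_row _ hm, eps_hh Q M ctx.unit (ht_of ctx), hper'] at hd
  have h8 : ((charDegree (χ : G n → ℂ) : ℤ) : ℂ) * ((PH Q n' : ℤ) * (PH (Q ^ e) k : ℤ)) =
      ((s * ((-1) ^ (e - 1)) ^ k : ℤˣ) : ℤ) * (PH Q n : ℤ) := by
    rw [PH_cast, PH_cast, PH_cast, Int.cast_pow]
    push_cast
    rw [hd]
    field_simp
  exact fac_A hp ho ctx.two he he0 hnn (s * ((-1) ^ (e - 1)) ^ k) (by exact_mod_cast h8)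

/-- **(B)** : the partition `(p, 1)` -/
theorem lab_B (hp : p.Prime) (ho : Odd p) (h𝔐 : IsPModular p 𝔐) (ctx : CtxQ θ Q M N) (hQp : IsUnit (Q : ZMod p))
    (t : Tow θ Q M N p G)
    {n n' e : ℕ} (hn : n ≤ N) (h1 : (t.T n hn).typ 1 = tyOne Q n) (he : orderOf (Q : ZMod p) = e) (he0 : 0 < e)
    (hnn : n' + e * (p + 1) = n) {c : ZMod M} (hc : c ≠ 0) (hc' : p • c = 0) :
    ∃ (χ : IrrCharacter (G n)) (T : LabZ Q M n n), (t.R n hn).IsLb χ T ∧ χ ∈ principalBlock 𝔐 (G n) ∧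
      (charDegree (χ : G n → ℂ)).factorization p = ((n / e).choose (p + 1)).factorization p + 1 ∧
      ∀ c, p • c ≠ 0 → bsz (T.t c) = 0 := by
  have hpn : p + 1 ≤ n := by
    have := Nat.le_mul_of_pos_left (p + 1) he0
    omega
  have hm : 0 < n := by omega
  have hm2 : 2 ≤ n := by
    have := hp.two_le
    omega
  have hper : perZ Q M c = e := by rw [Cfsg.Agent.H139.XZ.perZ_tors hp ctx.unit hQp hc hc', he]
  have hper' : perZ Q M (canon Q M c) = e := by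
    rw [← perZ_of_same ctx.unit (sameZ_canon c), hper]
  have hnn' : n' + perZ Q M c * bsz (Cfsg.Agent.H531.HT.hk n p) = n := by
    rw [hper, Cfsg.Agent.H531.HT.sum_hk hm2, hnn]
  obtain ⟨χ, s, hχ, hB, hd⟩ := lab_ex h𝔐 ctx t hn hm h1
    (Cfsg.Agent.H139.XZ.two ctx.unit (Cfsg.Agent.H531.HT.row_mono n n') (Cfsg.Agent.H531.HT.sum_row' hm n') c hc
      (Cfsg.Agent.H531.HT.hk_mono hp.pos) hnn')
    (Cfsg.Agent.H531.HT.form_two_hk_ne hp ctx.unit hQp hpn hm hc hc' hnn')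
  refine ⟨χ, _, hχ, hB, ?_, fun c' hc2 => two_triv ctx _ _ hc hc' _ _ hc2⟩
  have hT := Cfsg.Agent.H139.XZ.SchP_two ctx.unit (Cfsg.Agent.H531.HT.row_mono n n') (Cfsg.Agent.H531.HT.sum_row' hm n')
    c hc (Cfsg.Agent.H531.HT.hk_mono hp.pos) hnn'
  rw [Cfsg.Agent.H531.HT.sum_hk hm2] at hT
  have hU := eps_unip ctx hm n'
  have hQe : 2 ≤ |Q ^ e| := by
    rw [abs_pow]
    exact ctx.two.trans (le_self_pow₀ (by linarith [ctx.two]) he0.ne')
  have h6 : ph (Q : ℂ) n' ≠ 0 := ph_ne (ht_of ctx) n'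
  have h7 : ph ((Q : ℂ) ^ e) (p + 1) ≠ 0 := by
    rw [← Int.cast_pow, ← PH_cast]
    exact_mod_cast PH_ne hQe _
  have h9 : (Q : ℂ) ^ e - 1 ≠ 0 := sub_ne_zero.2 (ht_of ctx e he0)
  have hE := eps_hk Q M ctx.unit (ht_of ctx) (canon Q M c) hp.pos hpn
  rw [hper'] at hE
  rw [hT, map_mul, hU] at hd
  have h8 : ((charDegree (χ : G n → ℂ) : ℤ) : ℂ) *
      ((PH Q n' : ℤ) * ((((Q ^ e - 1 : ℤ)) : ℂ) * (PH (Q ^ e) (p + 1) : ℤ))) =
      ((s * ((-1) ^ (e - 1)) ^ (p + 1) : ℤˣ) : ℤ) * ((PH Q n : ℤ) * ((((Q ^ e : ℤ)) : ℂ) * (((Q ^ e) ^ p - 1 : ℤ) : ℂ))) := by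
    rw [PH_cast, PH_cast, PH_cast]
    push_cast
    rw [hd]
    have h10 : ((s : ℤ) : ℂ) * (ph (Q : ℂ) n * (eps Q M (SS (fun j => Pw Q M j (canon Q M c)) (p + 1)
        (Cfsg.Agent.H531.HT.hk n p)) * (ph (Q : ℂ) n')⁻¹)) * (ph (Q : ℂ) n' * (((Q : ℂ) ^ e - 1) *
        ph ((Q : ℂ) ^ e) (p + 1))) = ((s : ℤ) : ℂ) * ph (Q : ℂ) n * (eps Q M (SS (fun j => Pw Q M j (canon Q M c)) (p + 1)
        (Cfsg.Agent.H531.HT.hk n p)) * (((Q : ℂ) ^ e - 1) * ph ((Q : ℂ) ^ e) (p + 1))) := by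
      field_simp
    rw [h10, hE]
    ring
  exact fac_B hp ho ctx.two he he0 hnn (s * ((-1) ^ (e - 1)) ^ (p + 1)) (by exact_mod_cast h8)

/-- **a character of height one with a label of order `p`** -/
theorem exists_one (hp : p.Prime) (ho : Odd p) (h𝔐 : IsPModular p 𝔐) (ctx : CtxQ θ Q M N) (hQp : IsUnit (Q : ZMod p))
    (t : Tow θ Q M N p G)
    {n e : ℕ} (hn : n ≤ N) (h1 : (t.T n hn).typ 1 = tyOne Q n) (he : orderOf (Q : ZMod p) = e) (he0 : 0 < e)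
    (hne : p * e ≤ n) {c : ZMod M} (hc : c ≠ 0) (hc' : p • c = 0) :
    ∃ (χ : IrrCharacter (G n)) (T : LabZ Q M n n), (t.R n hn).IsLb χ T ∧ χ ∈ principalBlock 𝔐 (G n) ∧
      (charDegree (χ : G n → ℂ)).factorization p = 1 ∧ ∀ c, p • c ≠ 0 → bsz (T.t c) = 0 := by
  rcases Cfsg.Agent.H421.HT.exists_choose hp (w := n / e) ((Nat.le_div_iff_mul_le he0).2 hne) with
    ⟨k, hk1, hk2, hk3⟩ | ⟨hw, hd⟩
  · have h2 : k * e ≤ n := (Nat.le_div_iff_mul_le he0).1 hk2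
    obtain ⟨χ, T, hχ, hB, hdeg, hT⟩ := lab_A (n' := n - e * k) hp ho h𝔐 ctx hQp t hn h1 he he0 hk1
      (by rw [mul_comm e k]; omega) hc hc'
    exact ⟨χ, T, hχ, hB, hdeg.trans hk3, hT⟩
  · have h2 : (p + 1) * e ≤ n := (Nat.le_div_iff_mul_le he0).1 hw
    obtain ⟨χ, T, hχ, hB, hdeg, hT⟩ := lab_B (n' := n - e * (p + 1)) hp ho h𝔐 ctx hQp t hn h1 he he0
      (by rw [mul_comm e (p + 1)]; omega) hc hc'
    refine ⟨χ, T, hχ, hB, ?_, hT⟩
    rw [hdeg, Nat.factorization_eq_zero_of_not_dvd hd]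

end tow

end Cfsg.Agent.H794.EM
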