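import Cfsg.Agent.H794.EM.Deg
import Cfsg.Agent.H139.XZ.Lab
import Cfsg.Agent.H531.HT.Kap

/-!
# S4933, label route (helper794): the degree functional at the labels

* `eps_hh` : `eps` of a complete symmetric function on the orbit of `c`;
* `eps_hk` : `eps` of the Schur function of the partition `(p, 1)` (helper531's `H531.HT.hk`).
-/

set_option autoImplicit false
set_option linter.unusedSectionVars false

open scoped ComplexConjugate

namespace Cfsg.Agent.H794.EM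

open Cfsg.Agent.H577.GLB.Std Cfsg.Agent.H614 Cfsg.Agent.H614.GLn.RSt
open Cfsg.Agent.H614.GLn hiding bsz
open Cfsg.Agent.H794.XZ

universe u v

section eps

variable (Q : ℤ) (M : ℕ) [NeZero M]

theorem eps_Pw (hQ : IsUnit (Q : ZMod M)) (c : ZMod M) {j : ℕ} (hj : 0 < j) :
    eps Q M (Pw Q M j c) = cs (Q : ℂ) (j * perZ Q M c) := by
  have h1 : 0 < j * perZ Q M c ∧ TorZ Q M (j * perZ Q M c) c :=
    ⟨Nat.mul_pos hj (perZ_pos hQ c), (torZ_iff _ _).2 (Dvd.intro_left j rfl)⟩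
  rw [Pw, rv, if_pos h1, eps, MvPolynomial.aeval_X]

/-- the sign -/
theorem cs_mul {t : ℂ} {d j : ℕ} (hd : 0 < d) (hj : 0 < j) :
    cs t (j * d) = ((-1) ^ (d - 1)) ^ j * cs (t ^ d) j := by
  rw [cs, cs, ← pow_mul t, mul_comm d j, ← mul_assoc]
  congr 1
  rw [← pow_mul, ← pow_add]
  congr 1
  have : 0 < j * d := Nat.mul_pos hj hd
  have h1 : (d - 1) * j + j = j * d := by
    obtain ⟨d', rfl⟩ := Nat.exists_eq_succ_of_ne_zero hd.ne'
    simp only [Nat.succ_eq_add_one, Nat.add_sub_cancel]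
    ring
  omega

/-- complete symmetric functions -/
theorem eps_hh (hQ : IsUnit (Q : ZMod M)) (ht : ∀ i, 0 < i → (Q : ℂ) ^ i ≠ 1) (c : ZMod M) (k : ℕ) :
    eps Q M (hh (fun j => Pw Q M j c) k) =
      ((-1) ^ (perZ Q M c - 1)) ^ k * (ph ((Q : ℂ) ^ perZ Q M c) k)⁻¹ := by
  have hd := perZ_pos hQ c
  have ht' : ∀ i, 0 < i → ((Q : ℂ) ^ perZ Q M c) ^ i ≠ 1 := fun i hi => by
    rw [← pow_mul]
    exact ht _ (Nat.mul_pos hd hi)
  induction k using Nat.strong_induction_on with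
  | _ k ih =>
    rcases Nat.eq_zero_or_pos k with rfl | hk
    · rw [hh_zero, map_one, pow_zero, one_mul, ph_zero, inv_one]
    · have hk' : (k : ℂ) ≠ 0 := by exact_mod_cast hk.ne'
      apply mul_left_cancel₀ hk'
      rw [← smul_eq_mul (k : ℂ) (eps Q M _), ← map_smul, hh_rec, map_sum, mul_left_comm, newton ht' k,
        Finset.sum_range_succ', cs_zero, zero_mul, add_zero, Finset.mul_sum]
      rw [Finset.range_eq_Ico, Finset.sum_Ico_add' (fun r => ((-1 : ℂ) ^ (perZ Q M c - 1)) ^ k *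
        (cs ((Q : ℂ) ^ perZ Q M c) r * (ph ((Q : ℂ) ^ perZ Q M c) (k - r))⁻¹)) 0 k 1]
      refine Finset.sum_congr ?_ fun r hr => ?_
      · ext r
        simp only [Finset.mem_Icc, Finset.mem_Ico]
        omega
      · rw [Finset.mem_Ico] at hr
        rw [map_mul, eps_Pw Q M hQ c (by omega), cs_mul hd (by omega), ih (k - r) (by omega)]
        have h1 : ((-1 : ℂ) ^ (perZ Q M c - 1)) ^ k =
            ((-1 : ℂ) ^ (perZ Q M c - 1)) ^ r * ((-1 : ℂ) ^ (perZ Q M c - 1)) ^ (k - r) := by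
          rw [← pow_add, Nat.add_sub_cancel' (by omega)]
        rw [h1]
        ring

end eps

/-! ### the partition `(p, 1)` -/

section eps2

variable (Q : ℤ) (M : ℕ) [NeZero M]

theorem eps_hk (hQ : IsUnit (Q : ZMod M)) (ht : ∀ i, 0 < i → (Q : ℂ) ^ i ≠ 1) (c : ZMod M) {m a : ℕ} (h0 : 0 < a)
    (ha : a + 1 ≤ m) :
    eps Q M (SS (fun j => Pw Q M j c) (a + 1) (Cfsg.Agent.H531.HT.hk m a)) *
        (((Q : ℂ) ^ perZ Q M c - 1) * ph ((Q : ℂ) ^ perZ Q M c) (a + 1)) =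
      ((-1) ^ (perZ Q M c - 1)) ^ (a + 1) * ((Q : ℂ) ^ perZ Q M c * (((Q : ℂ) ^ perZ Q M c) ^ a - 1)) := by
  have hd := perZ_pos hQ c
  have ht' : ∀ i, 0 < i → ((Q : ℂ) ^ perZ Q M c) ^ i ≠ 1 := fun i hi => by
    rw [← pow_mul]
    exact ht _ (Nat.mul_pos hd hi)
  rw [Cfsg.Agent.H531.HT.SS_hk _ h0 ha, map_sub, map_mul, eps_hh Q M hQ ht, eps_hh Q M hQ ht, eps_Pw Q M hQ c one_pos,
    cs_mul hd one_pos, cs, Nat.sub_self, pow_zero, one_mul, pow_one, pow_one]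
  generalize hs : (-1 : ℂ) ^ (perZ Q M c - 1) = s
  generalize hT : (Q : ℂ) ^ perZ Q M c = T at ht' ⊢
  have h1 : T - 1 ≠ 0 := by
    have := ht' 1 one_pos
    rw [pow_one] at this
    exact sub_ne_zero.2 this
  have h2 := ph_ne ht' a
  have h3 : T ^ (a + 1) - 1 ≠ 0 := sub_ne_zero.2 (ht' _ (Nat.succ_pos a))
  rw [ph_succ]
  field_simp
  ring

end eps2

end Cfsg.Agent.H794.EM
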